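import Groth.Agent.Lib.Omega12.ConormalRank
import Groth.Agent.Lib.RegImm26.Apps
import Groth.Agent.Lib.RankLoc10.Triv
import Groth.Agent.Lib.BlowKoszul2.Conormal
import Groth.Agent.Lib.CI2.Conormal
import Groth.Agent.Lib.VB17.Sub

/-!
A closed immersion of smooth schemes is regular, of codimension the difference of the relative dimensions.
-/

set_option autoImplicit false
set_option linter.style.haveILetI false
set_option backward.isDefEq.respectTransparency false
set_option backward.isDefEq.respectTransparency.types false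
set_option synthInstance.maxHeartbeats 400000
set_option maxHeartbeats 1600000

universe u

open CategoryTheory CategoryTheory.Limits AlgebraicGeometry TopologicalSpace Opposite

namespace Groth.Agent.SmImm2

variable {S X Y : Scheme.{u}}

theorem rk_of_rank {n : ℕ} {M : X.Modules} (h : FlatMod.IsFinLocFreeOfRank n M) (x : X) : RankLoc10.rk M x = n := by
  obtain ⟨D, e, hxD, he⟩ := P1Split.exists_isBas_nhd h x
  exact RankLoc10.rk_eq_of_isBas he hxD

theorem isFinLocFree_of_rank {n : ℕ} {M : X.Modules} (h : FlatMod.IsFinLocFreeOfRank n M) :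
    FlatMod.IsFinLocFree M := fun x => by
  obtain ⟨U, hxU, hU⟩ := h x; exact ⟨U, n, hxU, hU⟩

/-- Inverse images keep the rank. -/
theorem isFinLocFreeOfRank_pullback {n : ℕ} {M : X.Modules} (h : FlatMod.IsFinLocFreeOfRank n M) (g : Y ⟶ X) :
    FlatMod.IsFinLocFreeOfRank n ((Scheme.Modules.pullback g).obj M) :=
  RankLoc10.isFinLocFreeOfRank_of_rk (M2.isFinLocFree_pullback g (isFinLocFree_of_rank h)) fun y => by
    rw [RankLoc10.rk_pullback (isFinLocFree_of_rank h), rk_of_rank h]

/-- The rank of the kernel in an extension of locally free modules. -/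
theorem isFinLocFreeOfRank_left (T : ShortComplex X.Modules) (hT : T.ShortExact) {n m : ℕ}
    (h₁ : FlatMod.IsFinLocFree T.X₁) (h₂ : FlatMod.IsFinLocFreeOfRank n T.X₂) (h₃ : FlatMod.IsFinLocFreeOfRank m T.X₃) :
    FlatMod.IsFinLocFreeOfRank (n - m) T.X₁ := by
  refine RankLoc10.isFinLocFreeOfRank_of_rk h₁ fun x => ?_
  haveI := ((M1.isFinLocFree_iff T.X₁).1 h₁).2 x
  haveI := ((M1.isFinLocFree_iff T.X₂).1 (isFinLocFree_of_rank h₂)).2 x
  haveI := ((M1.isFinLocFree_iff T.X₃).1 (isFinLocFree_of_rank h₃)).2 x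
  obtain ⟨e₂⟩ := CurveCoh17.nonempty_stalk_equiv h₂ x
  obtain ⟨e₃⟩ := CurveCoh17.nonempty_stalk_equiv h₃ x
  haveI : Module.Finite (X.presheaf.stalk x) (T.X₂.presheaf.stalk x) := Module.Finite.equiv e₂.symm
  haveI : Module.Finite (X.presheaf.stalk x) (T.X₃.presheaf.stalk x) := Module.Finite.equiv e₃.symm
  let f := CurveCoh17.stalkLin T.f x
  let g := CurveCoh17.stalkLin T.g x
  have hinj : Function.Injective f := (M1.mono_iff_stalk T.f).1 hT.mono_f x
  have hsurj : Function.Surjective g := (M1.epi_iff_stalk T.g).1 hT.epi_g x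
  have hex : Function.Exact f g := fun b => by
    refine ⟨fun hb => (M1.exact_iff_stalk_eq_zero T).1 hT.exact x b hb, ?_⟩
    rintro ⟨a, rfl⟩
    show ((M1.stalkAb x).map T.f ≫ (M1.stalkAb x).map T.g) a = 0
    rw [← Functor.map_comp, T.zero, Functor.map_zero]
    rfl
  obtain ⟨l, hl⟩ := Module.projective_lifting_property g LinearMap.id hsurj
  let e := (hex.splitSurjectiveEquiv hinj ⟨l, hl⟩).1
  have : Module.Finite (X.presheaf.stalk x) (T.X₁.presheaf.stalk x) := by
    obtain ⟨k, D, b, hxD, hb⟩ := PushUnit3.exists_isBas_nhd' h₁ x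
    exact Module.Finite.equiv (LinearEquiv.ofBijective (Fintype.linearCombination (X.presheaf.stalk x)
      fun i => (T.X₁.presheaf.germ D x hxD (b i) : T.X₁.presheaf.stalk x)) (hb.stalk hxD))
  have h := e.finrank_eq
  rw [Module.finrank_prod, e₂.finrank_eq, e₃.finrank_eq, Module.finrank_fin_fun, Module.finrank_fin_fun] at h
  show Module.finrank _ _ = n - m
  omega

/-- A closed immersion over the base between smooth schemes is regular. -/
theorem regular_of_smooth (f : X ⟶ S) (i : Y ⟶ X) [Smooth f] [Smooth (i ≫ f)] [IsClosedImmersion i] :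
    RegImm.IsRegularImmersion .regular i := by
  refine RegImm26.regular_of_fibres f i (fun y => Flat.stalkMap f (i y)) fun s => ?_
  haveI := RegImm26.isLocallyNoetherian_fiber f s
  let g := S.fromSpecResidueField s
  let e : pullback i (f.fiberι s) ≅ pullback (i ≫ f) g := pullbackRightPullbackFstIso f g i
  haveI : Smooth (pullback.snd (i ≫ f) g) := MorphismProperty.pullback_snd (P := @Smooth) _ _ inferInstance
  haveI : Smooth (e.hom ≫ pullback.snd (i ≫ f) g) := inferInstance
  haveI : LocallyOfFiniteType (pullback.snd (i ≫ f) g) := inferInstance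
  haveI : IsLocallyNoetherian (pullback (i ≫ f) g) :=
    LocallyOfFiniteType.isLocallyNoetherian (pullback.snd (i ≫ f) g)
  haveI : IsLocallyNoetherian (pullback i (f.fiberι s)) := isLocallyNoetherian_of_isOpenImmersion e.hom
  haveI : Smooth (f.fiberToSpecResidueField s) := MorphismProperty.pullback_snd (P := @Smooth) _ _ inferInstance
  refine (RegImm26.regular_iff_quasi _).1 (RegImm26.regular_of_regular_schemes _ ?_ ?_)
  · exact fun x => WeilExt.isRegularLocalRing_of_smooth (f.fiberToSpecResidueField s)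
      (RegImm26.isRegularLocalRing_stalk_spec_field (S.residueField s)) x
  · exact fun x => WeilExt.isRegularLocalRing_of_smooth (e.hom ≫ pullback.snd (i ≫ f) g)
      (RegImm26.isRegularLocalRing_stalk_spec_field (S.residueField s)) x

/-- The conormal sequence of a closed immersion of smooth schemes, with ranks. -/
theorem exists_conormal_ses (f : X ⟶ S) (i : Y ⟶ X) (n m : ℕ) [SmoothOfRelativeDimension n f]
    [SmoothOfRelativeDimension m (i ≫ f)] [QuasiSeparated f] [QuasiSeparated (i ≫ f)] [IsClosedImmersion i] :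
    ∃ T : ShortComplex Y.Modules, T.ShortExact ∧ T.X₁ = Omega.conormal i ∧
      T.X₂ = (Scheme.Modules.pullback i).obj (Omega.sheaf f) ∧ T.X₃ = Omega.sheaf (i ≫ f) ∧
      FlatMod.IsFinLocFreeOfRank (n - m) (Omega.conormal i) ∧
      FlatMod.IsFinLocFreeOfRank n (Omega.sheaf f) ∧ FlatMod.IsFinLocFreeOfRank m (Omega.sheaf (i ≫ f)) := by
  haveI : Smooth f := SmoothOfRelativeDimension.smooth n f
  haveI : Smooth (i ≫ f) := SmoothOfRelativeDimension.smooth m (i ≫ f)
  have hd := Omega12.isUniversal_dOmega (f := f)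
  have hd' := Omega12.isUniversal_dOmega (f := i ≫ f)
  obtain ⟨φ, hφ, -⟩ := GrMap12.existsUnique_conormalDiff (i := i) (OmegaSh.dOmega f)
  obtain ⟨c, hc, -⟩ := Omega12.existsUnique_diffCompat (h := i) (f := f) (f' := i ≫ f) (b := 𝟙 S)
    (Category.comp_id _) hd (OmegaSh.dOmega (i ≫ f))
  obtain ⟨h0, hex, hepi⟩ := Omega12.exact_immersion i _ _ hd _ _ hd' φ hφ c hc
  haveI := hepi
  haveI : Mono φ := GrMap12.mono_conormalDiff_of_formallySmooth
    (SmoothLift15.isFormallySmoothHom_of_smooth (i ≫ f)) hd hφ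
  have hT : (ShortComplex.mk φ c h0).ShortExact := ShortComplex.ShortExact.mk' hex inferInstance inferInstance
  have h₂ := Omega12.isFinLocFreeOfRank_receptacle_of_smooth (f := f) hd n
  have h₃ := Omega12.isFinLocFreeOfRank_receptacle_of_smooth (f := i ≫ f) hd' m
  exact ⟨ShortComplex.mk φ c h0, hT, rfl, rfl, rfl,
    isFinLocFreeOfRank_left _ hT (DPerf.isFinLocFree_kernel φ c h0 hT (M2.isFinLocFree_pullback i (isFinLocFree_of_rank h₂))
      (isFinLocFree_of_rank h₃)) (isFinLocFreeOfRank_pullback h₂ i) h₃, h₂, h₃⟩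

/-- The length of a regular sequence of equations is the rank of the conormal sheaf. -/
theorem regular_codim_of_rank {i : Y ⟶ X} [IsClosedImmersion i] (hi : RegImm.IsRegularImmersion .regular i) {d : ℕ}
    (hC : FlatMod.IsFinLocFreeOfRank d (Omega.conormal i)) :
    RegImm.IsRegularImmersionOfCodim .regular d i := by
  refine ⟨hi.1, fun z => ?_⟩
  obtain ⟨U, hzU, hc, rs, hrs, hker⟩ := hi.2 z
  refine ⟨U, hzU, hc, rs, ?_, hrs, hker⟩
  have hr : CI2.Ex Γ(X, U.1) Γ(X, U.1) (List.ofFn rs.get) := by
    rw [List.ofFn_get]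
    exact CI2.ex_of_isWeaklyRegular rs _ hrs.toIsWeaklyRegular
  have hspan : RingHom.ker (i.app U.1).hom = Ideal.span (Set.range rs.get) := by
    rw [hker, Set.range_list_get]
  have hmem : ∀ j, rs.get j ∈ Set.range (M2.idealIncl (U := U.1) i.ker) := fun j => by
    rw [M2.range_idealIncl i.ker U, Scheme.Hom.ker_apply, hspan]
    exact Ideal.subset_span ⟨j, rfl⟩
  choose a ha using hmem
  have hb := BlowKoszul2.isBas_conormal i U.2 rs.get hr hspan a ha
  exact (RankLoc10.rk_eq_of_isBas hb hzU).symm.trans (rk_of_rank hC z)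

end Groth.Agent.SmImm2
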