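import Groth.Agent.Lib.SmImm2.ConormalImm
import Groth.Agent.Lib.RegImm26.RelBC
import Groth.Agent.S8919
import Groth.Agent.Lib.SmImm2.Main

/-!
Base change of relatively regular immersions keeps the codimension.
-/

set_option autoImplicit false
set_option linter.style.haveILetI false
set_option backward.isDefEq.respectTransparency false
set_option backward.isDefEq.respectTransparency.types false
set_option synthInstance.maxHeartbeats 400000
set_option maxHeartbeats 1600000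

universe u

open CategoryTheory CategoryTheory.Limits AlgebraicGeometry TopologicalSpace TensorProduct

namespace Groth.Agent.SmImm2

open Groth.Agent.RegImm26

variable {Z X S : Scheme.{u}} (f : X ⟶ S) (i : Z ⟶ X)

/-- A regular immersion of kind `h1` or `quasi` near a point, on a small chart. -/
theorem exists_small_chart_len {k : RegImm.Kind} (hk : k = .h1 ∨ k = .quasi) [IsImmersion i] (z : Z)
    {c : ℕ} (h : ∃ U : X.affineOpens, i z ∈ U.1 ∧ IsClosedImmersion (i ∣_ U.1) ∧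
      ∃ rs : List Γ(X, U.1), rs.length = c ∧ k.Seq Γ(X, U.1) rs ∧ RingHom.ker (i.app U.1).hom = Ideal.ofList rs) {O : X.Opens} (hO : i z ∈ O) :
    ∃ U : X.affineOpens, i z ∈ U.1 ∧ U.1 ≤ O ∧ IsClosedImmersion (i ∣_ U.1) ∧
      ∃ rs : List Γ(X, U.1), rs.length = c ∧ k.Seq Γ(X, U.1) rs ∧ RingHom.ker (i.app U.1).hom = Ideal.ofList rs := by
  obtain ⟨U, hzU, hcl, rs, hlen, hrs, hker⟩ := h
  haveI := hcl
  obtain ⟨_, ⟨V, hV, rfl⟩, hzV, hle⟩ :=
    X.isBasis_affineOpens.exists_subset_of_mem_open (show i z ∈ U.1 ⊓ O from ⟨hzU, hO⟩) (U.1 ⊓ O).2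
  have hVU : V ≤ (𝟙 X : X ⟶ X) ⁻¹ᵁ U.1 := fun x hx => (hle hx).1
  have hsq : IsPullback (𝟙 Z) i i (𝟙 X) := IsPullback.of_horiz_isIso ⟨by simp⟩
  refine ⟨⟨V, hV⟩, hzV, fun x hx => (hle hx).2, CI2.isClosedImmersion_restrict_of_isPullback i (𝟙 X) i (𝟙 Z) hsq hVU,
    rs.map ((𝟙 X : X ⟶ X).appLE U.1 V hVU).hom, by rw [List.length_map, hlen], ?_, ?_⟩
  · letI : Algebra Γ(X, U.1) Γ(X, V) := ((𝟙 X : X ⟶ X).appLE U.1 V hVU).hom.toAlgebra
    haveI : Module.Flat Γ(X, U.1) Γ(X, V) := Scheme.Hom.flat_appLE (𝟙 X) U.2 hV hVU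
    obtain rfl | rfl := hk
    · exact RegSeq26.transfer_h1 _ rs (RegSeq26.isH1Regular_of_flat hrs)
    · exact RegSeq26.transfer_quasi _ rs (RegSeq26.isQuasiRegular_of_flat hrs)
  · rw [CI2.ker_app_of_isPullback i (𝟙 X) i (𝟙 Z) hsq U.2 hV hVU, hker, Ideal.map_ofList]

/-- Base change of relative `H1`-regular and quasi-regular immersions. -/
theorem relRegularCodim_baseChange {S' : Scheme.{u}} {k : RegImm.Kind} (hk : k = .h1 ∨ k = .quasi)
    {c : ℕ} (hi : RegImm.IsRegularImmersionOfCodim k c i) (hfl : Flat (i ≫ f)) (g : S' ⟶ S) :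
    RegImm.IsRegularImmersionOfCodim k c (pullback.snd i (pullback.fst f g)) := by
  haveI := hi.1
  haveI := hfl
  set p := pullback.fst f g
  set q := pullback.snd f g
  have hsq : IsPullback (pullback.fst i p) (pullback.snd i p) i p := IsPullback.of_hasPullback i p
  haveI hflat : Flat (pullback.snd i p ≫ q) := by
    have h2 : IsPullback (pullback.fst i p) (pullback.snd i p ≫ q) (i ≫ f) g :=
      hsq.paste_vert (IsPullback.of_hasPullback f g)
    exact MorphismProperty.of_isPullback h2 hfl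
  haveI : IsImmersion (pullback.snd i p) := MorphismProperty.of_isPullback hsq hi.1
  refine ⟨inferInstance, fun z => ?_⟩
  let z₀ := pullback.fst i p z
  let x' := pullback.snd i p z
  have hx : p x' = i z₀ := by
    show (pullback.snd i p ≫ p) z = (pullback.fst i p ≫ i) z
    rw [pullback.condition]
  obtain ⟨_, ⟨W, hW, rfl⟩, hxW, -⟩ :=
    S.isBasis_affineOpens.exists_subset_of_mem_open (Set.mem_univ (f (i z₀))) isOpen_univ
  obtain ⟨⟨U, hU⟩, hzU, hUW, hcl, rs, hlen, hrs, hker⟩ := exists_small_chart_len i hk z₀ (hi.2 z₀) (O := f ⁻¹ᵁ W) hxW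
  haveI := hcl
  have hgq : g (q x') = f (p x') := by
    show (q ≫ g) x' = (p ≫ f) x'
    rw [pullback.condition]
  have hxW' : q x' ∈ g ⁻¹ᵁ W := by
    rw [Scheme.Hom.mem_preimage, hgq, hx]; exact hxW
  obtain ⟨_, ⟨W', hW', rfl⟩, hqW', hW'W⟩ := S'.isBasis_affineOpens.exists_subset_of_mem_open hxW' (g ⁻¹ᵁ W).2
  let V := p ⁻¹ᵁ U ⊓ q ⁻¹ᵁ W'
  have H : IsPullback p q f g := IsPullback.of_hasPullback f g
  haveI : IsAffine (U : Scheme.{u}) := hU
  haveI : IsAffine (W : Scheme.{u}) := hW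
  haveI : IsAffine (W' : Scheme.{u}) := hW'
  have hV : IsAffineOpen V :=
    .of_isIso (Scheme.Hom.isPullback_resLE H hW'W hUW (UY := V) rfl).isoPullback.hom
  have hVU : V ≤ p ⁻¹ᵁ U := inf_le_left
  have hpush := (isIso_pushoutSection_iff H hW'W hUW (hUY := rfl)).1
    (isIso_pushoutSection_of_isAffineOpen H hW'W hUW rfl hW hW' hU)
  refine ⟨⟨V, hV⟩, ⟨(show p x' ∈ U by rw [hx]; exact hzU), hqW'⟩, CI2.isClosedImmersion_restrict_of_isPullback i p _ _ hsq hVU,
    rs.map (p.appLE U V hVU).hom, by rw [List.length_map, hlen], ?_, by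
      rw [CI2.ker_app_of_isPullback i p _ _ hsq hU hV hVU, hker, Ideal.map_ofList]⟩
  letI := (f.appLE W U hUW).hom.toAlgebra
  letI := (g.appLE W W' hW'W).hom.toAlgebra
  letI := (p.appLE U V hVU).hom.toAlgebra
  letI := (q.appLE W' V inf_le_right).hom.toAlgebra
  letI : Algebra Γ(S, W) Γ(pullback f g, V) := (f.appLE W U hUW ≫ p.appLE U V hVU).hom.toAlgebra
  haveI : IsScalarTower Γ(S, W) Γ(X, U) Γ(pullback f g, V) := IsScalarTower.of_algebraMap_eq' rfl
  haveI : IsScalarTower Γ(S, W) Γ(S', W') Γ(pullback f g, V) := IsScalarTower.of_algebraMap_eq' (by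
    show (f.appLE W U hUW ≫ p.appLE U V hVU).hom = (g.appLE W W' hW'W ≫ q.appLE W' V inf_le_right).hom
    rw [hpush.w])
  haveI : Algebra.IsPushout Γ(S, W) Γ(S', W') Γ(X, U) Γ(pullback f g, V) :=
    CommRingCat.isPushout_iff_isPushout.1 hpush.flip
  haveI : Module.Flat Γ(S, W) (Γ(X, U) ⧸ Ideal.ofList rs) := hker ▸ flat_chart f i hU hW hUW
  exact seq_baseChange (A := Γ(S, W)) (A' := Γ(S', W')) (B := Γ(X, U)) hk hrs

/-- The conormal sheaf of an `H₁`-regular immersion is finite locally free. -/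
theorem isFinLocFreeOfRank_conormal_h1 {X X' : Scheme.{u}} (i : X ⟶ X') [QuasiCompact i]
    {c : ℕ} (hi : RegImm.IsRegularImmersionOfCodim .h1 c i) : FlatMod.IsFinLocFreeOfRank c (Omega.conormal i) := by
  haveI := hi.1
  intro x
  obtain ⟨⟨V', hV'⟩, hxV', hcl, rs, hlen, hrs, hrsker⟩ := hi.2 x
  haveI := hcl
  obtain ⟨hV, hs⟩ := CI2.surjective_app_of_closed i hV'
  subst hlen
  let B' := Γ(X', V')
  let B := Γ(X, i ⁻¹ᵁ V')
  letI : Algebra B' B := (i.appLE V' (i ⁻¹ᵁ V') le_rfl).hom.toAlgebra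
  have he : algebraMap B' B = (i.app V').hom := congrArg CommRingCat.Hom.hom i.appLE_eq_app
  let N := Omega.conormal i
  have hN : Coh.IsQCoh N := M1.isQCoh_pullback i (M2.isQCoh_idealMod _)
  letI : Module B' Γ(N, i ⁻¹ᵁ V') := PullBC11.baseModule (g := i) N (U := V') (V := i ⁻¹ᵁ V') le_rfl
  haveI : IsScalarTower B' B Γ(N, i ⁻¹ᵁ V') := IsScalarTower.of_algebraMap_smul fun _ _ => rfl
  let s₁ : Γ(ClSub.idealMod i.ker, V') →ₗ[B'] Γ(N, i ⁻¹ᵁ V') :=
    PullBC11.sect (PP12.unitTo i (ClSub.idealMod i.ker)) (le_refl (i ⁻¹ᵁ V'))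
  have hs₁ : IsBaseChange B s₁ := PP12.isBC_unit i (M2.isQCoh_idealMod i.ker) hV' hV (le_refl (i ⁻¹ᵁ V'))
  let E : Algebra.Extension.{u} B' B := Algebra.Extension.ofSurjective (Algebra.ofId B' B) (fun b => by
    obtain ⟨a, ha⟩ := hs b
    exact ⟨a, (RingHom.congr_fun he a).trans ha⟩)
  have hker : RingHom.ker (algebraMap B' B) = RingHom.ker (i.app V').hom := by rw [he]
  have hEker : E.ker = Ideal.span (Set.range rs.get) := by
    rw [Set.range_list_get]
    exact hker.trans hrsker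
  obtain ⟨eb⟩ := SyntRank2.nonempty_cotangent_equiv_of_gen E rs.get hEker fun a ha =>
    SyntRank2.coeff_of_h1 _ hrs E.ker (fun k => by rw [hEker]; exact Ideal.subset_span ⟨k, rfl⟩) a
      (by rw [← hEker]; rwa [pow_two] at ha)
  haveI h1 : Module.Finite B E.Cotangent := Module.Finite.equiv eb.symm
  haveI h2 : Module.Projective B E.Cotangent := Module.Projective.of_equiv eb.symm
  let K : Ideal B' := RingHom.ker (algebraMap B' B)
  have hr : LinearMap.range (GrMap12.inclLin i.ker V') = K := by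
    rw [GrMap12.range_inclLin _ ⟨V', hV'⟩, Scheme.Hom.ker_apply]
    exact hker.symm
  let eI : Γ(ClSub.idealMod i.ker, V') ≃ₗ[B'] K :=
    (LinearEquiv.ofInjective (GrMap12.inclLin i.ker V') (M2.idealIncl_injective _ _)).trans (LinearEquiv.ofEq _ _ hr)
  obtain ⟨eC⟩ := SyntRank2.nonempty_tensor_ker_equiv_cotangent E
  let e : B ⊗[B'] Γ(ClSub.idealMod i.ker, V') ≃ₗ[B] E.Cotangent :=
    (TensorProduct.AlgebraTensorModule.congr (LinearEquiv.refl B B) eI).trans eC
  have hb := BlowKoszul2.isBas_of_basis hN hV (Module.Basis.ofEquivFun (hs₁.equiv.symm.trans (e.trans eb)))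
  exact ⟨i ⁻¹ᵁ V', hxV', ResDesc11.nonempty_restrict_iso_free hb⟩


omit f i in
/-- A regular immersion with conormal sheaf of rank `c` has codimension `c`. -/
theorem isRegularImmersionOfCodim_of_rank {Z X : Scheme.{u}} (i : Z ⟶ X) [QuasiCompact i]
    (hi : RegImm.IsRegularImmersion .regular i) {c : ℕ} (hC : FlatMod.IsFinLocFreeOfRank c (Omega.conormal i)) :
    RegImm.IsRegularImmersionOfCodim .regular c i := by
  refine ⟨hi.1, fun z => ?_⟩
  obtain ⟨U, hzU, hcl, rs, hrs, hker⟩ := hi.2 z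
  refine ⟨U, hzU, hcl, rs, ?_, hrs, hker⟩
  have hr : CI2.Ex Γ(X, U.1) Γ(X, U.1) (List.ofFn rs.get) := by
    rw [List.ofFn_get]
    exact CI2.ex_of_isWeaklyRegular rs _ hrs.toIsWeaklyRegular
  have hspan : RingHom.ker (i.app U.1).hom = Ideal.span (Set.range rs.get) := by
    rw [hker, Set.range_list_get]
  have hmem : ∀ j, rs.get j ∈ Set.range (M2.idealIncl (U := U.1) i.ker) := fun j => by
    rw [M2.range_idealIncl i.ker U, Scheme.Hom.ker_apply, hspan]
    exact Ideal.subset_span ⟨j, rfl⟩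
  choose a ha using hmem
  exact (RankLoc10.rk_eq_of_isBas (isBas_conormal' i hcl U.2 rs.get hr hspan a ha) hzU).symm.trans (rk_of_rank hC z)

end Groth.Agent.SmImm2
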