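import Groth.Agent.Lib.SmImm2.Compare
import Groth.Agent.Lib.SmImm2.BaseRank
import Groth.Agent.Lib.Wedge2.Exists
import Groth.Agent.Lib.PairIso.Tilde
import Groth.Agent.Lib.Omega12.Transitive
import Groth.Agent.Lib.Cyc26.KoszulH1

/-!
Sequences for composites of smooth morphisms and the codimension of a second immersion.
-/

set_option autoImplicit false
set_option linter.style.haveILetI false
set_option backward.isDefEq.respectTransparency false
set_option backward.isDefEq.respectTransparency.types false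
set_option synthInstance.maxHeartbeats 400000
set_option maxHeartbeats 1600000

universe u

open CategoryTheory CategoryTheory.Limits AlgebraicGeometry TopologicalSpace

namespace Groth.Agent.SmImm2

variable {X Y Z : Scheme.{u}}

/-- Changing a regular immersion by an isomorphism of its source. -/
theorem isRegularImmersionOfCodim_iso_comp {W' W T : Scheme.{u}} (e : W' ⟶ W) [IsIso e] (j : W ⟶ T)
    {k : RegImm.Kind} {c : ℕ} (hj : RegImm.IsRegularImmersionOfCodim k c j) :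
    RegImm.IsRegularImmersionOfCodim k c (e ≫ j) := by
  haveI := hj.1
  refine ⟨inferInstance, fun z => ?_⟩
  obtain ⟨U, hU, hc, rs, hlen, hrs, hker⟩ := hj.2 (e z)
  refine ⟨U, hU, ?_, rs, hlen, hrs, ?_⟩
  · haveI := hc
    rw [morphismRestrict_comp]
    exact inferInstanceAs (IsClosedImmersion (e ∣_ (j ⁻¹ᵁ U.1) ≫ j ∣_ U.1))
  · rw [← hker, Scheme.Hom.comp_app]
    exact RingHom.ker_comp_of_injective _ (ConcreteCategory.bijective_of_isIso (e.app (j ⁻¹ᵁ U.1))).injective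

theorem forget_codim {k : RegImm.Kind} {c : ℕ} {i : X ⟶ Z} (hi : RegImm.IsRegularImmersionOfCodim k c i) :
    RegImm.IsRegularImmersion k i := ⟨hi.1, fun z => by
  obtain ⟨U, hU, hc, rs, -, hrs, hker⟩ := hi.2 z
  exact ⟨U, hU, hc, rs, hrs, hker⟩⟩

theorem koszul_of_regular {i : X ⟶ Z} (hi : RegImm.IsRegularImmersion .regular i) :
    RegImm.IsRegularImmersion .koszul i := ⟨hi.1, fun z => by
  obtain ⟨U, hU, hc, rs, hrs, hker⟩ := hi.2 z
  exact ⟨U, hU, hc, rs, (CI2.isKoszulRegularSeq_iff_ex rs).mpr (CI2.ex_of_isWeaklyRegular rs _ hrs.toIsWeaklyRegular), hker⟩⟩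

theorem h1_of_koszul {i : X ⟶ Z} (hi : RegImm.IsRegularImmersion .koszul i) :
    RegImm.IsRegularImmersion .h1 i := ⟨hi.1, fun z => by
  obtain ⟨U, hU, hc, rs, hrs, hker⟩ := hi.2 z
  exact ⟨U, hU, hc, rs, Cyc26.isH1Regular_of_isKoszulRegularSeq rs hrs, hker⟩⟩

theorem quasi_of_h1 {i : X ⟶ Z} (hi : RegImm.IsRegularImmersion .h1 i) :
    RegImm.IsRegularImmersion .quasi i := ⟨hi.1, fun z => by
  obtain ⟨U, hU, hc, rs, hrs, hker⟩ := hi.2 z
  exact ⟨U, hU, hc, rs, QReg.isQuasiRegular_of_isH1Regular hrs, hker⟩⟩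

/-- The rank of the conormal sheaf of a second regular immersion into a smooth scheme. -/
theorem exists_rank_conormal_second {Z₁ Z₂ : Scheme.{u}} (i₁ : X ⟶ Z₁) (g₁ : Z₁ ⟶ Y) (i₂ : X ⟶ Z₂) (g₂ : Z₂ ⟶ Y)
    (hw : i₁ ≫ g₁ = i₂ ≫ g₂) [QuasiCompact i₁] [QuasiCompact i₂] [QuasiSeparated g₁] [QuasiSeparated g₂]
    {c n m : ℕ} [IsImmersion i₁] [IsImmersion i₂] (hC : FlatMod.IsFinLocFreeOfRank c (Omega.conormal i₁))
    (hC₂ : FlatMod.IsFinLocFree (Omega.conormal i₂))
    [SmoothOfRelativeDimension n g₁] [SmoothOfRelativeDimension m g₂] :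
    FlatMod.IsFinLocFreeOfRank (c + m - n) (Omega.conormal i₂) := by
  let P := pullback g₂ g₁
  let s : X ⟶ P := pullback.lift i₂ i₁ hw.symm
  have e₁ : s ≫ pullback.snd g₂ g₁ = i₁ := pullback.lift_snd _ _ _
  have e₂ : s ≫ pullback.fst g₂ g₁ = i₂ := pullback.lift_fst _ _ _
  haveI : IsImmersion (s ≫ pullback.snd g₂ g₁) := by rw [e₁]; infer_instance
  haveI : IsImmersion s := IsImmersion.of_comp s (pullback.snd g₂ g₁)
  haveI : QuasiSeparated (pullback.snd g₂ g₁) := MorphismProperty.pullback_snd (P := @QuasiSeparated) _ _ ‹_›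
  haveI : QuasiSeparated (pullback.fst g₂ g₁) := MorphismProperty.pullback_fst (P := @QuasiSeparated) _ _ ‹_›
  haveI : QuasiCompact (s ≫ pullback.snd g₂ g₁) := by rw [e₁]; infer_instance
  haveI : QuasiCompact s := QuasiCompact.of_comp s (pullback.snd g₂ g₁)
  haveI : Smooth g₂ := SmoothOfRelativeDimension.smooth m g₂
  haveI : Smooth g₁ := SmoothOfRelativeDimension.smooth n g₁
  have hC₁q : Coh.IsQCoh (Omega.conormal i₁) := M1.isQCoh_pullback i₁ (M2.isQCoh_idealMod _)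
  haveI := hC₁q
  have hΩ₂q : Coh.IsQCoh (Omega.sheaf g₂) := Omega12.isQCoh_receptacle g₂ (Omega12.isUniversal_dOmega (f := g₂))
  haveI := hΩ₂q
  obtain ⟨hs, -, -⟩ := isExtPow_conormal_prod i₁ i₂ g₁ g₂ s _ _ (IsPullback.of_hasPullback g₂ g₁) e₁ e₂ hC
    (Wedge2.isExtPow_extMod c _) (Wedge2.isExtPow_extMod m _)
  -- the sequence over the second factor
  let q := pullback.fst g₂ g₁
  haveI : Smooth q := MorphismProperty.pullback_fst (P := @Smooth) _ _ inferInstance
  have hd := Omega12.isUniversal_dOmega (f := g₁)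
  have hd' := Omega12.isUniversal_dOmega (f := q)
  have sq : IsPullback (pullback.snd g₂ g₁) q g₁ g₂ := (IsPullback.of_hasPullback g₂ g₁).flip
  obtain ⟨c₀, hc₀, -⟩ := Omega12.existsUnique_diffCompat sq.w.symm hd (OmegaSh.dOmega q)
  haveI := Omega12.isIso_diffCompat_of_isPullback sq hd hd' c₀ hc₀
  have w : 𝟙 X ≫ i₂ = s ≫ q := by rw [Category.id_comp, e₂]
  obtain ⟨ψ, hψ, -⟩ := GrMap12.existsUnique_conormalMap w
  obtain ⟨φ, hφ, -⟩ := GrMap12.existsUnique_conormalDiff (i := s) (OmegaSh.dOmega q)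
  haveI : Mono ψ := GrMap12.mono_conormalMap_of_formallySmooth (SmoothLift15.isFormallySmoothHom_of_smooth q) e₂ hψ
  obtain ⟨w0, hex, hepi⟩ := GrMap12.exact_relative e₂ hd' ψ hψ φ hφ
  haveI := hepi
  let T : ShortComplex X.Modules := ShortComplex.mk ψ φ w0
  have hT : T.ShortExact := ShortComplex.ShortExact.mk' hex (inferInstanceAs (Mono ψ)) hepi
  let eC : T.X₁ ≅ Omega.conormal i₂ := (Scheme.Modules.pullbackId X).app (Omega.conormal i₂)
  let eΩ : T.X₃ ≅ (Scheme.Modules.pullback i₁).obj (Omega.sheaf g₁) :=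
    (Scheme.Modules.pullback s).mapIso (asIso c₀).symm ≪≫
      (Scheme.Modules.pullbackComp s (pullback.snd g₂ g₁)).app (Omega.sheaf g₁) ≪≫
      (Scheme.Modules.pullbackCongr e₁).app (Omega.sheaf g₁)
  have hΩr : FlatMod.IsFinLocFreeOfRank n (Omega.sheaf g₁) :=
    Omega12.isFinLocFreeOfRank_receptacle_of_smooth (f := g₁) hd n
  exact M2.isFinLocFreeOfRank_of_iso eC (isFinLocFreeOfRank_left T hT (M2.isFinLocFree_of_iso eC.symm hC₂) hs
    (M2.isFinLocFreeOfRank_of_iso eΩ.symm (isFinLocFreeOfRank_pullback hΩr i₁)))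

/-- The sequence of differentials of a composite of smooth morphisms. -/
theorem exists_ses_comp (f : X ⟶ Y) (g : Y ⟶ Z) {m n : ℕ} [SmoothOfRelativeDimension m f]
    [SmoothOfRelativeDimension n g] [QuasiSeparated f] [QuasiSeparated g] :
    ∃ T : ShortComplex X.Modules, T.ShortExact ∧ Nonempty (T.X₁ ≅ (Scheme.Modules.pullback f).obj (Omega.sheaf g)) ∧
      T.X₂ = Omega.sheaf (f ≫ g) ∧ T.X₃ = Omega.sheaf f ∧ FlatMod.IsFinLocFreeOfRank (m + n) T.X₂ := by
  have hY := Omega12.isUniversal_dOmega (f := g)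
  have hX := Omega12.isUniversal_dOmega (f := f ≫ g)
  have hXY := Omega12.isUniversal_dOmega (f := f)
  obtain ⟨c₁, hc₁, -⟩ := Omega12.existsUnique_diffCompat (h := f) (f := g) (f' := f ≫ g) (b := 𝟙 Z)
    (Category.comp_id _) hY (OmegaSh.dOmega (f ≫ g))
  obtain ⟨c₂, hc₂, -⟩ := Omega12.existsUnique_diffCompat (h := 𝟙 X) (f := f ≫ g) (f' := f) (b := g)
    (by rw [Category.id_comp]) hX (OmegaSh.dOmega f)
  obtain ⟨hepi, himg⟩ := Omega12.exact_comp f g _ _ hY _ _ hX _ _ hXY c₁ hc₁ c₂ hc₂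
  haveI := hepi
  let γ := (Scheme.Modules.pullbackId X).inv.app (Omega.sheaf (f ≫ g)) ≫ c₂
  have h2 : FlatMod.IsFinLocFreeOfRank (m + n) (Omega.sheaf (f ≫ g)) :=
    Omega12.isFinLocFreeOfRank_receptacle_of_smooth (f := f ≫ g) hX (m + n)
  have h3 : FlatMod.IsFinLocFreeOfRank m (Omega.sheaf f) := Omega12.isFinLocFreeOfRank_receptacle_of_smooth (f := f) hXY m
  let T : ShortComplex X.Modules := ShortComplex.mk (kernel.ι γ) γ (kernel.condition γ)
  have hT : T.ShortExact := ShortComplex.ShortExact.mk' (ShortComplex.exact_of_f_is_kernel _ (kernelIsKernel γ))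
    inferInstance (inferInstanceAs (Epi γ))
  have h0 : c₁ ≫ γ = 0 := by
    have hk : (kernelSubobject γ).arrow ≫ γ = 0 := kernelSubobject_arrow_comp γ
    rw [← imageSubobject_arrow_comp c₁, Category.assoc]
    have : (imageSubobject c₁).arrow ≫ γ = 0 := by rw [himg]; exact hk
    rw [this, comp_zero]
  have hex : (ShortComplex.mk c₁ γ h0).Exact := ((ShortComplex.mk c₁ γ h0).exact_iff_image_eq_kernel).2 himg
  haveI : Epi (kernel.lift γ c₁ h0) := (ShortComplex.exact_iff_epi_kernel_lift _).1 hex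
  have h1 : FlatMod.IsFinLocFreeOfRank n (kernel γ) := by
    have := isFinLocFreeOfRank_left T hT (DPerf.isFinLocFree_kernel _ γ (kernel.condition γ) hT
      (isFinLocFree_of_rank h2) (isFinLocFree_of_rank h3)) h2 h3
    rwa [Nat.add_sub_cancel_left] at this
  haveI := PairIso.isIso_of_epi_rank (isFinLocFreeOfRank_pullback
    (Omega12.isFinLocFreeOfRank_receptacle_of_smooth (f := g) hY n) f) h1 (kernel.lift γ c₁ h0)
  exact ⟨T, hT, ⟨(asIso (kernel.lift γ c₁ h0)).symm⟩, rfl, rfl, h2⟩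

end Groth.Agent.SmImm2
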