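import Groth.Agent.Lib.SmImm2.ConormalImm
import Groth.Agent.Lib.DetSES2.Free
import Groth.Agent.Lib.Wedge2.Props
import Groth.Agent.Lib.Wedge2.Top
import Groth.Agent.Lib.GrMap12.MonoRel
import Groth.Agent.Lib.Omega12.BaseChange
import Groth.Agent.Lib.TensorMod.Dual

/-!
The determinant of the conormal sheaf of an immersion into a product.
-/

set_option autoImplicit false
set_option linter.style.haveILetI false
set_option backward.isDefEq.respectTransparency false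
set_option backward.isDefEq.respectTransparency.types false
set_option synthInstance.maxHeartbeats 400000
set_option maxHeartbeats 1600000

universe u

open CategoryTheory CategoryTheory.Limits AlgebraicGeometry TopologicalSpace Opposite

namespace Groth.Agent.SmImm2

variable {X Y Z₁ Z₂ P : Scheme.{u}}

theorem rank_eq_of_nonempty [Nonempty X] {a b : ℕ} {M : X.Modules} (ha : FlatMod.IsFinLocFreeOfRank a M)
    (hb : FlatMod.IsFinLocFreeOfRank b M) : a = b :=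
  (rk_of_rank ha (Classical.arbitrary X)).symm.trans (rk_of_rank hb _)

/-- On the empty scheme all modules are isomorphic. -/
theorem nonempty_iso_of_isEmpty [IsEmpty X] (M N : X.Modules) : Nonempty (M ≅ N) := by
  have h : ∀ A : X.Modules, IsZero A := fun A => by
    rw [IsZero.iff_id_eq_zero]
    refine Scheme.Modules.hom_ext _ _ fun U => ?_
    ext a
    exact M1.section_ext _ _ fun x hx => (IsEmpty.false x).elim
  exact ⟨(h M).iso (h N)⟩

/-- The determinant of the conormal sheaf of `X` in a product of smooth schemes. -/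
theorem isExtPow_conormal_prod (i₁ : X ⟶ Z₁) (i₂ : X ⟶ Z₂) (g₁ : Z₁ ⟶ Y) (g₂ : Z₂ ⟶ Y) (s : X ⟶ P)
    (q₁ : P ⟶ Z₁) (q₂ : P ⟶ Z₂) (sq : IsPullback q₂ q₁ g₂ g₁) (e₁ : s ≫ q₁ = i₁) (e₂ : s ≫ q₂ = i₂)
    [IsImmersion i₁] [IsImmersion s] [QuasiCompact i₁] [QuasiCompact s] [QuasiSeparated g₂] [QuasiSeparated q₁]
    {c n : ℕ} [SmoothOfRelativeDimension n g₂]
    (hC : FlatMod.IsFinLocFreeOfRank c (Omega.conormal i₁)) {D : X.Modules} {DΩ : Z₂.Modules}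
    (hD : ExtPow.IsExtPow c (Omega.conormal i₁) D) (hΩ : ExtPow.IsExtPow n (Omega.sheaf g₂) DΩ) :
    FlatMod.IsFinLocFreeOfRank (c + n) (Omega.conormal s) ∧
      ExtPow.IsExtPow (c + n) (Omega.conormal s) (CohB1.tensorMod D ((Scheme.Modules.pullback i₂).obj DΩ)) ∧
      PicF.IsInvertible (CohB1.tensorMod D ((Scheme.Modules.pullback i₂).obj DΩ)) := by
  haveI := smoothOfRelativeDimension_isStableUnderBaseChange (n := n)
  haveI hq : SmoothOfRelativeDimension n q₁ := MorphismProperty.of_isPullback (P := @SmoothOfRelativeDimension n) sq ‹_›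
  haveI : Smooth q₁ := SmoothOfRelativeDimension.smooth n q₁
  have hd := Omega12.isUniversal_dOmega (f := g₂)
  have hd' := Omega12.isUniversal_dOmega (f := q₁)
  obtain ⟨c₀, hc₀, -⟩ := Omega12.existsUnique_diffCompat sq.w.symm hd (OmegaSh.dOmega q₁)
  haveI := Omega12.isIso_diffCompat_of_isPullback sq hd hd' c₀ hc₀
  have w : 𝟙 X ≫ i₁ = s ≫ q₁ := by rw [Category.id_comp, e₁]
  obtain ⟨ψ, hψ, -⟩ := GrMap12.existsUnique_conormalMap w
  obtain ⟨φ, hφ, -⟩ := GrMap12.existsUnique_conormalDiff (i := s) (OmegaSh.dOmega q₁)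
  haveI : Mono ψ := GrMap12.mono_conormalMap_of_formallySmooth (SmoothLift15.isFormallySmoothHom_of_smooth q₁) e₁ hψ
  obtain ⟨w0, hex, hepi⟩ := GrMap12.exact_relative e₁ hd' ψ hψ φ hφ
  haveI := hepi
  let T : ShortComplex X.Modules := ShortComplex.mk ψ φ w0
  have hT : T.ShortExact := ShortComplex.ShortExact.mk' hex (inferInstanceAs (Mono ψ)) hepi
  let eC : T.X₁ ≅ Omega.conormal i₁ := (Scheme.Modules.pullbackId X).app (Omega.conormal i₁)
  let eΩ : T.X₃ ≅ (Scheme.Modules.pullback i₂).obj (Omega.sheaf g₂) :=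
    (Scheme.Modules.pullback s).mapIso (asIso c₀).symm ≪≫ (Scheme.Modules.pullbackComp s q₂).app (Omega.sheaf g₂) ≪≫
      (Scheme.Modules.pullbackCongr e₂).app (Omega.sheaf g₂)
  have hΩr : FlatMod.IsFinLocFreeOfRank n (Omega.sheaf g₂) :=
    Omega12.isFinLocFreeOfRank_receptacle_of_smooth (f := g₂) hd n
  have h₁ : FlatMod.IsFinLocFreeOfRank c T.X₁ := M2.isFinLocFreeOfRank_of_iso eC.symm hC
  have h₃ : FlatMod.IsFinLocFreeOfRank n T.X₃ :=
    M2.isFinLocFreeOfRank_of_iso eΩ.symm (isFinLocFreeOfRank_pullback hΩr i₂)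
  have h₂q : Coh.IsQCoh T.X₂ := M1.isQCoh_pullback s (M2.isQCoh_idealMod _)
  have h₂ := DetSES2.isFinLocFreeOfRank_middle T hT h₂q h₁ h₃
  have hL₃ : ExtPow.IsExtPow n T.X₃ ((Scheme.Modules.pullback i₂).obj DΩ) :=
    Wedge2.isExtPow_of_iso eΩ.symm (Iso.refl _)
      (Wedge2.isExtPow_pullback' i₂ (M2.isQCoh_of_isFinLocFree (isFinLocFree_of_rank hΩr)) hΩ)
  have hL₁ : ExtPow.IsExtPow c T.X₁ D := Wedge2.isExtPow_of_iso eC.symm (Iso.refl _) hD
  have i1 := Wedge2.isInvertible_top h₁ hL₁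
  have i3 := Wedge2.isInvertible_top h₃ hL₃
  exact ⟨h₂, DetSES2.isExtPow_tensor_middle T hT rfl h₁ (isFinLocFree_of_rank h₂) h₃ hL₁ hL₃
    (M2.isFinLocFree_of_isInvertible i1) (M2.isFinLocFree_of_isInvertible i3), M2.isInvertible_tensor i1 i3⟩

/-- Invertible modules cancel. -/
theorem nonempty_iso_of_tensor_iso {A B M : X.Modules} (hM : PicF.IsInvertible M)
    (e : CohB1.tensorMod A M ≅ CohB1.tensorMod B M) : Nonempty (A ≅ B) := by
  obtain ⟨N, -, ⟨t⟩⟩ := M2.exists_inverse hM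
  exact ⟨(M2.tensorRUnit A).symm ≪≫ M2.tensorIso (Iso.refl A) t.symm ≪≫ (M2.tensorAssoc A M N).symm ≪≫
    M2.tensorIso e (Iso.refl N) ≪≫ M2.tensorAssoc B M N ≪≫ M2.tensorIso (Iso.refl B) t ≪≫ M2.tensorRUnit B⟩

/-- Independence of the factorisation. -/
theorem nonempty_iso_of_isCanonicalVia (i₁ : X ⟶ Z₁) (g₁ : Z₁ ⟶ Y) (i₂ : X ⟶ Z₂) (g₂ : Z₂ ⟶ Y)
    (hw : i₁ ≫ g₁ = i₂ ≫ g₂) [QuasiCompact i₁] [QuasiCompact i₂] [QuasiSeparated g₁] [QuasiSeparated g₂]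
    {c₁ n₁ c₂ n₂ : ℕ} (hi₁ : RegImm.IsRegularImmersionOfCodim .regular c₁ i₁)
    (hi₂ : RegImm.IsRegularImmersionOfCodim .regular c₂ i₂)
    [SmoothOfRelativeDimension n₁ g₁] [SmoothOfRelativeDimension n₂ g₂] {ω₁ ω₂ : X.Modules}
    (hω₁ : Canon.IsCanonicalVia i₁ g₁ c₁ n₁ ω₁) (hω₂ : Canon.IsCanonicalVia i₂ g₂ c₂ n₂ ω₂) :
    Nonempty (ω₁ ≅ ω₂) := by
  rcases isEmpty_or_nonempty X with hE | hN
  · exact nonempty_iso_of_isEmpty _ _
  obtain ⟨D₁, W₁, hD₁, hW₁, ⟨a₁⟩⟩ := hω₁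
  obtain ⟨D₂, W₂, hD₂, hW₂, ⟨a₂⟩⟩ := hω₂
  haveI : IsImmersion i₁ := hi₁.1
  haveI : IsImmersion i₂ := hi₂.1
  let s : X ⟶ pullback g₂ g₁ := pullback.lift i₂ i₁ hw.symm
  have e₁ : s ≫ pullback.snd g₂ g₁ = i₁ := pullback.lift_snd _ _ _
  have e₂ : s ≫ pullback.fst g₂ g₁ = i₂ := pullback.lift_fst _ _ _
  haveI : IsImmersion (s ≫ pullback.snd g₂ g₁) := by rw [e₁]; infer_instance
  haveI : IsImmersion s := IsImmersion.of_comp s (pullback.snd g₂ g₁)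
  haveI : QuasiSeparated (pullback.snd g₂ g₁) := MorphismProperty.pullback_snd (P := @QuasiSeparated) _ _ ‹_›
  haveI : QuasiSeparated (pullback.fst g₂ g₁) := MorphismProperty.pullback_fst (P := @QuasiSeparated) _ _ ‹_›
  haveI : QuasiCompact (s ≫ pullback.snd g₂ g₁) := by rw [e₁]; infer_instance
  haveI : QuasiCompact s := QuasiCompact.of_comp s (pullback.snd g₂ g₁)
  obtain ⟨r₁, h₁, inv₁⟩ := isExtPow_conormal_prod i₁ i₂ g₁ g₂ s _ _ (IsPullback.of_hasPullback g₂ g₁) e₁ e₂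
    (isFinLocFreeOfRank_conormal i₁ hi₁) hD₁ hW₂
  obtain ⟨r₂, h₂, inv₂⟩ := isExtPow_conormal_prod i₂ i₁ g₂ g₁ s _ _ (IsPullback.of_hasPullback g₂ g₁).flip e₂ e₁
    (isFinLocFreeOfRank_conormal i₂ hi₂) hD₂ hW₁
  have hdeg : c₂ + n₁ = c₁ + n₂ := rank_eq_of_nonempty r₂ r₁
  obtain ⟨m⟩ := ExtFil4.isoExtPow h₁ (hdeg ▸ h₂)
  let A₁ := (Scheme.Modules.pullback i₁).obj W₁
  let A₂ := (Scheme.Modules.pullback i₂).obj W₂
  refine nonempty_iso_of_tensor_iso inv₁ ?_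
  exact (M2.tensorAssoc ω₁ D₁ A₂).symm ≪≫ M2.tensorIso a₁ (Iso.refl A₂) ≪≫ M2.tensorComm A₁ A₂ ≪≫
    M2.tensorIso a₂.symm (Iso.refl A₁) ≪≫ M2.tensorAssoc ω₂ D₂ A₁ ≪≫ M2.tensorIso (Iso.refl ω₂) m.symm

end Groth.Agent.SmImm2
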