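import Groth.Agent.Lib.SmImm2.Main

/-!
The conormal sheaf of a regular immersion is locally free of rank the codimension.
-/

set_option autoImplicit false
set_option linter.style.haveILetI false
set_option backward.isDefEq.respectTransparency false
set_option backward.isDefEq.respectTransparency.types false
set_option synthInstance.maxHeartbeats 400000
set_option maxHeartbeats 1600000

universe u

open CategoryTheory CategoryTheory.Limits AlgebraicGeometry TopologicalSpace Opposite TensorProduct

namespace Groth.Agent.SmImm2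

open Groth.Agent.M1 Groth.Agent.BlowKoszul2
open Groth.Agent.P1Split (IsBas)

variable {X : Scheme.{u}}

/-- The classes of a Koszul regular system of generators form a basis of the conormal sheaf. -/
theorem isBas_conormal' {Y : Scheme.{u}} (j : Y ⟶ X) [QuasiCompact j] {W : X.Opens}
    (hcl : IsClosedImmersion (j ∣_ W)) (hW : IsAffineOpen W) {m : ℕ}
    (r : Fin m → Γ(X, W)) (hr : CI2.Ex Γ(X, W) Γ(X, W) (List.ofFn r))
    (hker : RingHom.ker (j.app W).hom = Ideal.span (Set.range r))
    (a : Fin m → Γ(ClSub.idealMod j.ker, W)) (ha : ∀ i, M2.idealIncl j.ker (a i) = r i) :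
    IsBas (Omega.conormal j) (j ⁻¹ᵁ W) fun i => M2.pullSec j (ClSub.idealMod j.ker) (a i) := by
  classical
  haveI := hcl
  obtain ⟨hD, hs⟩ := CI2.surjective_app_of_closed j hW
  let A := Γ(X, W)
  let B := Γ(Y, j ⁻¹ᵁ W)
  let M := ClSub.idealMod j.ker
  let N := Omega.conormal j
  letI : Algebra A B := (j.appLE W (j ⁻¹ᵁ W) le_rfl).hom.toAlgebra
  have he : algebraMap A B = (j.app W).hom := congrArg CommRingCat.Hom.hom j.appLE_eq_app
  have hN : Coh.IsQCoh N := M1.isQCoh_pullback j (M2.isQCoh_idealMod _)
  letI : Module A Γ(N, j ⁻¹ᵁ W) := PullBC11.baseModule (g := j) N (U := W) (V := j ⁻¹ᵁ W) le_rfl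
  haveI : IsScalarTower A B Γ(N, j ⁻¹ᵁ W) := IsScalarTower.of_algebraMap_smul fun _ _ => rfl
  let s : Γ(M, W) →ₗ[A] Γ(N, j ⁻¹ᵁ W) := PullBC11.sect (PP12.unitTo j M) (le_refl (j ⁻¹ᵁ W))
  have hbc : IsBaseChange B s := PP12.isBC_unit j (M2.isQCoh_idealMod j.ker) hW hD (le_refl (j ⁻¹ᵁ W))
  have hsp : ∀ i, s (a i) = M2.pullSec j M (a i) := fun i => mres_id _ _ _
  let E : Algebra.Extension.{u} A B := Algebra.Extension.ofSurjective (Algebra.ofId A B) (fun b => by
    obtain ⟨x, hx⟩ := hs b
    exact ⟨x, (RingHom.congr_fun he x).trans hx⟩)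
  have hkerE : E.ker = Ideal.span (Set.range r) := by
    rw [← hker, ← he]; rfl
  have hrange : LinearMap.range (GrMap12.inclLin j.ker W) = (E.ker : Submodule A A) := by
    rw [GrMap12.range_inclLin _ ⟨W, hW⟩, Scheme.Hom.ker_apply, hker, hkerE]
  let inc : Γ(M, W) →ₗ[A] E.ker :=
    (GrMap12.inclLin j.ker W).codRestrict _ fun x => hrange ▸ LinearMap.mem_range_self _ x
  let T : B ⊗[A] Γ(M, W) →ₗ[B] E.Cotangent :=
    LinearMap.liftBaseChange B ((Algebra.Extension.Cotangent.mk (P := E)).comp inc)
  let L : (Fin m → B) →ₗ[B] Γ(N, j ⁻¹ᵁ W) := Fintype.linearCombination B fun i => M2.pullSec j M (a i)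
  have hL : Function.Bijective L := by
    refine ⟨(injective_iff_map_eq_zero L).2 fun c hc => ?_, fun z => ?_⟩
    · choose x hx using fun i => hs (c i)
      have h0 : ∑ i, (1 : B) ⊗ₜ[A] (x i • a i) = 0 := by
        refine hbc.equiv.injective ?_
        rw [map_sum, map_zero, ← hc]
        simp only [L, Fintype.linearCombination_apply]
        refine Finset.sum_congr rfl fun i _ => ?_
        rw [IsBaseChange.equiv_tmul, one_smul, map_smul, hsp, ← algebraMap_smul B, RingHom.congr_fun he, hx]
      have h1 := congrArg T h0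
      rw [← tmul_sum, map_zero, LinearMap.liftBaseChange_tmul, one_smul, LinearMap.comp_apply,
        Algebra.Extension.Cotangent.mk_eq_zero_iff] at h1
      have h2 : ∑ i, x i * r i ∈ Ideal.span (Set.range r) ^ 2 := by
        have h1' : GrMap12.inclLin j.ker W (∑ i, x i • a i) ∈ Ideal.span (Set.range r) ^ 2 := hkerE ▸ h1
        rw [map_sum] at h1'
        refine (congrArg (· ∈ Ideal.span (Set.range r) ^ 2) ?_).mpr h1'
        refine Finset.sum_congr rfl fun i _ => ?_
        rw [map_smul, smul_eq_mul, ← ha i]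
        rfl
      funext i
      rw [← hx i, Pi.zero_apply]
      exact RingHom.mem_ker.1 (hker ▸ CI2.mem_of_sq_relation hr x h2 i)
    · obtain ⟨w, rfl⟩ := hbc.equiv.surjective z
      induction w using TensorProduct.induction_on with
      | zero => exact ⟨0, by rw [map_zero, map_zero]⟩
      | add p p' hp hp' =>
        obtain ⟨c, hc⟩ := hp; obtain ⟨c', hc'⟩ := hp'
        exact ⟨c + c', by rw [map_add, map_add, hc, hc']⟩
      | tmul b x =>
        have hxm : M2.idealIncl j.ker x ∈ Ideal.span (Set.range r) := by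
          rw [← hkerE]
          exact (inc x).2
        obtain ⟨c, hc⟩ := (Ideal.mem_span_range_iff_exists_fun).1 hxm
        have hx : x = ∑ i, c i • a i := by
          refine M2.idealIncl_injective _ _ ?_
          show GrMap12.inclLin j.ker W x = GrMap12.inclLin j.ker W _
          rw [map_sum]
          refine hc.symm.trans (Finset.sum_congr rfl fun i _ => ?_)
          rw [map_smul, smul_eq_mul, ← ha i]
          rfl
        refine ⟨fun i => b * algebraMap A B (c i), ?_⟩
        rw [IsBaseChange.equiv_tmul, hx, map_sum, Finset.smul_sum]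
        simp only [L, Fintype.linearCombination_apply]
        refine Finset.sum_congr rfl fun i _ => ?_
        rw [map_smul, hsp, ← algebraMap_smul B (c i), smul_smul]
  have hb := isBas_of_basis hN hD (Module.Basis.ofEquivFun (LinearEquiv.ofBijective L hL).symm)
  convert hb using 1
  funext i
  rw [Module.Basis.coe_ofEquivFun, LinearEquiv.symm_symm]
  simp only [L, LinearEquiv.ofBijective_apply]
  rw [Fintype.linearCombination_apply, Finset.sum_eq_single i (fun l _ hl => by rw [Pi.single_eq_of_ne hl, zero_smul])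
    (fun h => absurd (Finset.mem_univ i) h), Pi.single_eq_same, one_smul]


/-- The conormal sheaf of a regular immersion of codimension `d` is locally free of rank `d`. -/
theorem isFinLocFreeOfRank_conormal {Y : Scheme.{u}} (i : Y ⟶ X) [QuasiCompact i] {d : ℕ}
    (hi : RegImm.IsRegularImmersionOfCodim .regular d i) : FlatMod.IsFinLocFreeOfRank d (Omega.conormal i) := by
  intro z
  obtain ⟨U, hzU, hc, rs, hlen, hrs, hker⟩ := hi.2 z
  subst hlen
  have hr : CI2.Ex Γ(X, U.1) Γ(X, U.1) (List.ofFn rs.get) := by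
    rw [List.ofFn_get]
    exact CI2.ex_of_isWeaklyRegular rs _ hrs.toIsWeaklyRegular
  have hspan : RingHom.ker (i.app U.1).hom = Ideal.span (Set.range rs.get) := by
    rw [hker, Set.range_list_get]
  have hmem : ∀ j, rs.get j ∈ Set.range (M2.idealIncl (U := U.1) i.ker) := fun j => by
    rw [M2.range_idealIncl i.ker U, Scheme.Hom.ker_apply, hspan]
    exact Ideal.subset_span ⟨j, rfl⟩
  choose a ha using hmem
  exact ⟨i ⁻¹ᵁ U.1, hzU, ResDesc11.nonempty_restrict_iso_free (isBas_conormal' i hc U.2 rs.get hr hspan a ha)⟩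

end Groth.Agent.SmImm2
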