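import Groth.Agent.Lib.SmImm2.Main

/-!
The conormal sequence of smooth schemes with given ranks of differentials.
-/

set_option autoImplicit false
set_option linter.style.haveILetI false
set_option backward.isDefEq.respectTransparency false
set_option backward.isDefEq.respectTransparency.types false
set_option synthInstance.maxHeartbeats 400000
set_option maxHeartbeats 1600000

universe u

open CategoryTheory CategoryTheory.Limits AlgebraicGeometry TopologicalSpace Opposite

namespace Groth.Agent.SmImm2

variable {S X Y : Scheme.{u}}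

/-- The conormal sequence of a closed immersion of smooth schemes whose differentials have given ranks. -/
theorem exists_conormal_ses' (f : X ⟶ S) (i : Y ⟶ X) (n m : ℕ) [Smooth f] [Smooth (i ≫ f)] [QuasiSeparated f]
    [QuasiSeparated (i ≫ f)] [IsClosedImmersion i] (h₂ : FlatMod.IsFinLocFreeOfRank n (Omega.sheaf f))
    (h₃ : FlatMod.IsFinLocFreeOfRank m (Omega.sheaf (i ≫ f))) :
    ∃ T : ShortComplex Y.Modules, T.ShortExact ∧ T.X₁ = Omega.conormal i ∧
      T.X₂ = (Scheme.Modules.pullback i).obj (Omega.sheaf f) ∧ T.X₃ = Omega.sheaf (i ≫ f) ∧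
      FlatMod.IsFinLocFreeOfRank (n - m) (Omega.conormal i) := by
  have hd := Omega12.isUniversal_dOmega (f := f)
  have hd' := Omega12.isUniversal_dOmega (f := i ≫ f)
  obtain ⟨φ, hφ, -⟩ := GrMap12.existsUnique_conormalDiff (i := i) (OmegaSh.dOmega f)
  obtain ⟨c, hc, -⟩ := Omega12.existsUnique_diffCompat (h := i) (f := f) (f' := i ≫ f) (b := 𝟙 S)
    (Category.comp_id _) hd (OmegaSh.dOmega (i ≫ f))
  obtain ⟨h0, hex, hepi⟩ := Omega12.exact_immersion i _ _ hd _ _ hd' φ hφ c hc
  haveI := hepi
  haveI : Mono φ := GrMap12.mono_conormalDiff_of_formallySmooth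
    (SmoothLift15.isFormallySmoothHom_of_smooth (i ≫ f)) hd hφ
  have hT : (ShortComplex.mk φ c h0).ShortExact := ShortComplex.ShortExact.mk' hex inferInstance inferInstance
  exact ⟨ShortComplex.mk φ c h0, hT, rfl, rfl, rfl,
    isFinLocFreeOfRank_left _ hT (DPerf.isFinLocFree_kernel φ c h0 hT (M2.isFinLocFree_pullback i (isFinLocFree_of_rank h₂))
      (isFinLocFree_of_rank h₃)) (isFinLocFreeOfRank_pullback h₂ i) h₃⟩

end Groth.Agent.SmImm2
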